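import Mathlib
import Groth.Agent.QRegLib.Basic
import Groth.Agent.FlatSlice.Seq
import Groth.Agent.SymGr.WeaklyReg

/-!
# Flatness of quotients by sequences quasi-regular modulo a locally nilpotent ideal of the base
-/

set_option autoImplicit false

universe u

namespace Groth.Agent.QRFlat

open MvPolynomial

section Fibre

variable {A B C : Type u} [CommRing A] [CommRing B] [CommRing C] [Algebra A B] {c : ℕ} {f : Fin c → B}

theorem inf_map_le (J : Ideal B) [Module.Flat A (B ⧸ J)] (P : Ideal A) {x : B}
    (hx : x ∈ P.map (algebraMap A B)) (hxJ : x ∈ J) : x ∈ P.map (algebraMap A B) * J := by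
  classical
  rw [Ideal.map] at hx
  obtain ⟨l, b, g, hxs⟩ := Submodule.mem_span_set'.1 hx
  choose p hpP hp using fun i => (g i).2
  have hsum : ∑ i, p i • (Ideal.Quotient.mk J (b i)) = 0 := by
    have e : ∀ i, p i • Ideal.Quotient.mk J (b i) = Ideal.Quotient.mk J (b i • (g i : B)) := fun i => by
      rw [← hp i, smul_eq_mul, map_mul, Algebra.smul_def, mul_comm]
      rfl
    rw [Finset.sum_congr rfl fun i _ => e i, ← map_sum, hxs]
    exact Ideal.Quotient.eq_zero_iff_mem.2 hxJ
  obtain ⟨k, a, y, hy, ha⟩ := (Module.Flat.iff_forall_isTrivialRelation.1 ‹Module.Flat A (B ⧸ J)›) hsum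
  choose y' hy' using fun j => Ideal.Quotient.mk_surjective (y j)
  have hj : ∀ i, b i - ∑ j, algebraMap A B (a i j) * y' j ∈ J := fun i => by
    rw [← Ideal.Quotient.eq_zero_iff_mem, map_sub, map_sum, sub_eq_zero]
    refine (hy i).trans ?_
    refine Finset.sum_congr rfl fun j _ => ?_
    rw [map_mul, hy', Algebra.smul_def]
    rfl
  have hx' : x = ∑ i, algebraMap A B (p i) * (b i - ∑ j, algebraMap A B (a i j) * y' j) := by
    simp only [mul_sub, Finset.sum_sub_distrib, Finset.mul_sum, ← mul_assoc, ← map_mul]
    rw [Finset.sum_comm]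
    simp only [← Finset.sum_mul, ← map_sum, ha, map_zero, zero_mul, Finset.sum_const_zero, sub_zero]
    rw [← hxs]
    exact Finset.sum_congr rfl fun i _ => by rw [← hp i, smul_eq_mul, mul_comm]
  rw [hx']
  exact Ideal.sum_mem _ fun i _ => Ideal.mul_mem_mul (Ideal.mem_map_of_mem _ (hpP i)) (hj i)

/-- quasi-regularity passes to the fibres when the quotient is flat -/
theorem isQuasiRegular_of_surjective (hf : CAlgX.IsQuasiRegular f)
    [Module.Flat A (B ⧸ Ideal.span (Set.range f))] (π : B →+* C) (hπ : Function.Surjective π)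
    (P : Ideal A) (hker : RingHom.ker π = P.map (algebraMap A B)) :
    CAlgX.IsQuasiRegular (fun i => π (f i)) := by
  classical
  let J := Ideal.span (Set.range f)
  let PB := P.map (algebraMap A B)
  have hinf : ∀ n : ℕ, ∀ x, x ∈ PB → x ∈ J ^ n → x ∈ PB * J ^ n := by
    intro n
    induction n with
    | zero => intro x hx _; rw [pow_zero, Ideal.one_eq_top, Ideal.mul_top]; exact hx
    | succ n ih =>
      intro x hx hxn
      obtain ⟨Q, hQ, hQc, rfl⟩ := QRegLib.exists_form_coeff_mem f PB n (ih x hx (Ideal.pow_le_pow_right n.le_succ hxn))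
      have h1 : ∀ d, Q.coeff d ∈ PB * J := fun d => inf_map_le J P (hQc d) (hf n Q hQ hxn d)
      rw [pow_succ', ← mul_assoc]
      exact QRegLib.eval_mem_mul_pow f _ n Q hQ h1
  intro n R hR he d
  have hJ : Ideal.span (Set.range fun i => π (f i)) = J.map π := by
    rw [Ideal.map_span, ← Set.range_comp]; rfl
  rw [hJ] at he ⊢
  obtain ⟨Q0, hQ0⟩ := MvPolynomial.map_surjective π hπ R
  let Q := homogeneousComponent n Q0
  have hQ : Q.IsHomogeneous n := homogeneousComponent_isHomogeneous n Q0
  have hQR : MvPolynomial.map π Q = R := by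
    ext e
    rw [coeff_map, coeff_homogeneousComponent]
    split_ifs with h
    · rw [← coeff_map, hQ0]
    · rw [map_zero, hR.coeff_eq_zero h]
  have heval : π (eval f Q) = eval (fun i => π (f i)) R := by
    rw [← hQR, MvPolynomial.map_eval]; rfl
  rw [← heval, ← Ideal.map_pow, Ideal.mem_map_iff_of_surjective π hπ] at he
  obtain ⟨y, hy, hyQ⟩ := he
  have hz : eval f Q - y ∈ PB := by
    show eval f Q - y ∈ P.map (algebraMap A B)
    rw [← hker, RingHom.mem_ker, map_sub, hyQ, sub_self]
  have hzn : eval f Q - y ∈ J ^ n :=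
    sub_mem ((Ideal.mem_span_pow_iff_exists_isHomogeneous f _).2 ⟨Q, hQ, rfl⟩) (Ideal.pow_le_pow_right n.le_succ hy)
  obtain ⟨S, hS, hSc, hSe⟩ := QRegLib.exists_form_coeff_mem f PB n (hinf n _ hz hzn)
  have hd := hf n (Q - S) (hQ.sub hS) (by rw [map_sub, hSe, sub_sub_cancel]; exact hy) d
  rw [← hQR, coeff_map]
  have hS0 : π (S.coeff d) = 0 := by rw [← RingHom.mem_ker, hker]; exact hSc d
  have e : π (Q.coeff d) = π ((Q - S).coeff d) := by rw [coeff_sub, map_sub, hS0, sub_zero]
  rw [e]
  exact Ideal.mem_map_of_mem _ hd

end Fibre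

/-- quasi-regularity localizes -/
theorem isQuasiRegular_localization {C L : Type u} [CommRing C] [CommRing L] [Algebra C L] (M : Submonoid C)
    [IsLocalization M L] {c : ℕ} {f : Fin c → C} (hf : CAlgX.IsQuasiRegular f) :
    CAlgX.IsQuasiRegular (fun i => algebraMap C L (f i)) := by
  classical
  intro n R hR he d
  let J := Ideal.span (Set.range f)
  have hJ : Ideal.span (Set.range fun i => algebraMap C L (f i)) = J.map (algebraMap C L) := by
    rw [Ideal.map_span, ← Set.range_comp]; rfl
  rw [hJ] at he ⊢
  obtain ⟨b, hb⟩ := IsLocalization.exist_integer_multiples M R.support R.coeff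
  choose! a ha using fun e (he : e ∈ R.support) => hb e he
  let R0 : MvPolynomial (Fin c) C := ∑ e ∈ R.support, monomial e (a e)
  have hc0 : ∀ e, R0.coeff e = if e ∈ R.support then a e else 0 := fun e => by
    simp [R0, coeff_sum, coeff_monomial]
  have hR0 : R0.IsHomogeneous n := by
    intro e he
    rw [hc0] at he
    exact hR (mem_support_iff.1 (by by_contra h; rw [if_neg h] at he; exact he rfl))
  have hmap : MvPolynomial.map (algebraMap C L) R0 = MvPolynomial.C (algebraMap C L b) * R := by
    ext e
    rw [coeff_map, coeff_C_mul, hc0]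
    split_ifs with h
    · rw [ha e h, Algebra.smul_def]
    · rw [map_zero, notMem_support_iff.1 h, mul_zero]
  have heval : algebraMap C L (eval f R0) = algebraMap C L b * eval (fun i => algebraMap C L (f i)) R := by
    have := congrArg (eval (fun i => algebraMap C L (f i))) hmap
    rw [map_mul, eval_C] at this
    rw [← this, MvPolynomial.map_eval]; rfl
  have hmem : algebraMap C L (eval f R0) ∈ (J ^ (n + 1)).map (algebraMap C L) := by
    rw [heval, Ideal.map_pow]; exact Ideal.mul_mem_left _ _ he
  obtain ⟨u, hu, hu'⟩ := (IsLocalization.algebraMap_mem_map_algebraMap_iff M L _ _).1 hmem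
  have h1 := hf n (MvPolynomial.C u * R0) (hR0.C_mul u) (by rw [map_mul, eval_C]; exact hu') d
  rw [coeff_C_mul, hc0] at h1
  by_cases hd : d ∈ R.support
  · rw [if_pos hd] at h1
    have h2 := Ideal.mem_map_of_mem (algebraMap C L) h1
    rw [map_mul, ha d hd, Algebra.smul_def] at h2
    have hu1 : IsUnit (algebraMap C L u * algebraMap C L b) :=
      (IsLocalization.map_units L (⟨u, hu⟩ : M)).mul (IsLocalization.map_units L b)
    rw [← mul_assoc] at h2
    exact (Ideal.unit_mul_mem_iff_mem _ hu1).1 h2
  · rw [notMem_support_iff.1 hd]; exact zero_mem _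

/-- the localization of a quotient is the quotient of the localization -/
theorem exists_quotEquiv {R : Type u} [CommRing R] (q : Ideal R) [q.IsPrime] (K : Ideal R) :
    Nonempty ((LocalizedModule q.primeCompl R ⧸ K • (⊤ : Submodule R (LocalizedModule q.primeCompl R))) ≃ₗ[R]
      LocalizedModule q.primeCompl (R ⧸ K)) := by
  let π := (LocalizedModule.map q.primeCompl K.mkQ).restrictScalars R
  have hπ : Function.Surjective π := LocalizedModule.map_surjective _ _ (Submodule.mkQ_surjective _)
  have hker : LinearMap.ker π = K • (⊤ : Submodule R (LocalizedModule q.primeCompl R)) := by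
    apply le_antisymm
    · intro z hz
      induction z using LocalizedModule.induction_on with
      | _ b s =>
        have h : LocalizedModule.mk (K.mkQ b) s = 0 := by
          rw [← LocalizedModule.map_mk]; exact hz
        rw [← LocalizedModule.zero_mk (1 : q.primeCompl), LocalizedModule.mk_eq] at h
        obtain ⟨u, hu⟩ := h
        simp only [Submonoid.smul_def, Submonoid.coe_one, one_smul, smul_zero, Submodule.mkQ_apply,
          ← Submodule.Quotient.mk_smul, Submodule.Quotient.mk_eq_zero, smul_eq_mul] at hu
        have e : LocalizedModule.mk b s = ((u : R) * b) • LocalizedModule.mk (1 : R) (u * s) := by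
          rw [LocalizedModule.smul'_mk, LocalizedModule.mk_eq]
          exact ⟨1, by simp [Submonoid.smul_def]; ring⟩
        rw [e]
        exact Submodule.smul_mem_smul hu Submodule.mem_top
    · rw [Submodule.smul_le]
      intro k hk z _
      rw [LinearMap.mem_ker, map_smul]
      induction π z using LocalizedModule.induction_on with
      | _ m s =>
        obtain ⟨m, rfl⟩ := Submodule.Quotient.mk_surjective _ m
        rw [LocalizedModule.smul'_mk, ← Submodule.Quotient.mk_smul, smul_eq_mul,
          (Submodule.Quotient.mk_eq_zero K).2 (K.mul_mem_right m hk), LocalizedModule.zero_mk]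
  exact ⟨(Submodule.quotEquivOfEq _ _ hker.symm).trans (π.quotKerEquivOfSurjective hπ)⟩

open RingTheory.Sequence in
/-- the main statement -/
theorem flat_quotient (A' B' : Type u) [CommRing A'] [CommRing B'] [Algebra A' B'] [Module.Flat A' B']
    [Algebra.FinitePresentation A' B'] (I : Ideal A') (hI : ∀ x ∈ I, IsNilpotent x) (r : ℕ) (f' : Fin r → B')
    (hq : CAlgX.IsQuasiRegular
      (fun i => Ideal.Quotient.mk (Ideal.map (algebraMap A' B') I) (f' i)))
    (hflat : Module.Flat (A' ⧸ I)
      ((B' ⧸ Ideal.map (algebraMap A' B') I) ⧸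
        Ideal.span (Set.range (fun i => Ideal.Quotient.mk (Ideal.map (algebraMap A' B') I) (f' i))))) :
    Module.Flat A' (B' ⧸ Ideal.span (Set.range f')) := by
  classical
  let l := List.ofFn f'
  have hl : Ideal.ofList l = Ideal.span (Set.range f') := by
    rw [Ideal.ofList]; congr 1; ext; simp [l]
  let J := Ideal.span (Set.range f')
  have hpt : ∀ (q : Ideal B') [q.IsPrime], Module.Flat A' (LocalizedModule q.primeCompl (B' ⧸ J)) := by
    intro q _
    by_cases hJq : J ≤ q
    swap
    · obtain ⟨a, ha, haq⟩ := SetLike.not_le_iff_exists.1 hJq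
      have : Subsingleton (LocalizedModule q.primeCompl (B' ⧸ J)) := by
        refine subsingleton_of_forall_eq 0 fun z => ?_
        induction z using LocalizedModule.induction_on with
        | _ m s =>
          obtain ⟨m, rfl⟩ := Submodule.Quotient.mk_surjective _ m
          rw [← LocalizedModule.zero_mk (1 : q.primeCompl), LocalizedModule.mk_eq]
          refine ⟨⟨a, haq⟩, ?_⟩
          simp only [Submonoid.smul_def, Submonoid.coe_one, one_smul, smul_zero, ← Submodule.Quotient.mk_smul,
            Submodule.Quotient.mk_eq_zero, smul_eq_mul]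
          exact J.mul_mem_right _ ha
      infer_instance
    let p := q.under A'
    let K := I.map (algebraMap A' B')
    let pB := p.map (algebraMap A' B')
    have hIp : I ≤ p := fun x hx => (hI x hx).elim fun n hn =>
      (inferInstance : p.IsPrime).mem_of_pow_mem n (hn ▸ p.zero_mem)
    have hKp : K ≤ pB := Ideal.map_mono hIp
    let C := B' ⧸ pB
    -- quasi-regular in the fibre
    have hker : RingHom.ker (Ideal.Quotient.factor hKp) =
        (p.map (Ideal.Quotient.mk I)).map (algebraMap (A' ⧸ I) (B' ⧸ K)) := by
      rw [Ideal.Quotient.factor_ker hKp, Ideal.map_map, Ideal.map_map]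
      rfl
    have hqC : CAlgX.IsQuasiRegular (fun i => Ideal.Quotient.mk pB (f' i)) :=
      isQuasiRegular_of_surjective (A := A' ⧸ I) (B := B' ⧸ K) hq (Ideal.Quotient.factor hKp)
        (Ideal.Quotient.factor_surjective hKp) (p.map (Ideal.Quotient.mk I)) hker
    have hpq : pB ≤ q := Ideal.map_comap_le
    let qC := q.map (Ideal.Quotient.mk pB)
    have hqCp : qC.IsPrime := Ideal.map_isPrime_of_surjective Ideal.Quotient.mk_surjective (by rwa [Ideal.mk_ker])
    have hqCc : qC.comap (Ideal.Quotient.mk pB) = q := by
      rw [Ideal.comap_map_of_surjective _ Ideal.Quotient.mk_surjective, ← RingHom.ker_eq_comap_bot, Ideal.mk_ker,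
        sup_eq_left.2 hpq]
    let L := Localization.AtPrime qC
    have hqL : CAlgX.IsQuasiRegular (fun i => algebraMap C L (Ideal.Quotient.mk pB (f' i))) :=
      isQuasiRegular_localization qC.primeCompl hqC
    -- the fibre local ring is noetherian
    have hnoeth : IsNoetherianRing L := by
      have h1 : p ≤ RingHom.ker (algebraMap A' L) := fun a ha => by
        rw [RingHom.mem_ker, IsScalarTower.algebraMap_apply A' C L,
          IsScalarTower.algebraMap_apply A' B' C, Ideal.Quotient.algebraMap_eq,
          Ideal.Quotient.eq_zero_iff_mem.2 (Ideal.mem_map_of_mem _ ha), map_zero]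
      have h2 : p.primeCompl ≤ (IsUnit.submonoid L).comap (algebraMap A' L) := fun a ha => by
        rw [Submonoid.mem_comap, IsUnit.mem_submonoid_iff, IsScalarTower.algebraMap_apply A' C L]
        exact IsLocalization.map_units L (⟨algebraMap A' C a, fun h => ha (show algebraMap A' B' a ∈ q by
          rw [← hqCc]; exact h)⟩ : qC.primeCompl)
      letI : Algebra p.ResidueField L := (Ideal.ResidueField.lift p (algebraMap A' L) h1 h2).toAlgebra
      have : IsScalarTower A' p.ResidueField L := IsScalarTower.of_algebraMap_eq fun a => by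
        rw [RingHom.algebraMap_toAlgebra, Ideal.ResidueField.lift_algebraMap]
      have : Algebra.EssFiniteType C L := Algebra.EssFiniteType.of_isLocalization L qC.primeCompl
      have : Algebra.EssFiniteType A' L := Algebra.EssFiniteType.comp A' C L
      have : Algebra.EssFiniteType p.ResidueField L := Algebra.EssFiniteType.of_comp A' p.ResidueField L
      exact Algebra.EssFiniteType.isNoetherianRing p.ResidueField L
    have hreg := SymGr.isWeaklyRegular_of_isQuasiRegular r L _ (fun i => by
      rw [IsLocalRing.ringJacobson_eq_maximalIdeal, ← Localization.AtPrime.map_eq_maximalIdeal]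
      exact Ideal.mem_map_of_mem _ (Ideal.mem_map_of_mem _ (hJq (Ideal.subset_span ⟨i, rfl⟩)))) hqL
    have hreg' : IsWeaklyRegular L l := by
      have e : List.ofFn (fun i => algebraMap C L (Ideal.Quotient.mk pB (f' i))) = l.map (algebraMap B' L) := by
        rw [List.map_ofFn]; rfl
      rw [e, RingTheory.Sequence.isWeaklyRegular_map_algebraMap_iff] at hreg
      exact hreg
    have hlm : IsLocalizedModule q.primeCompl (IsScalarTower.toAlgHom B' C L).toLinearMap := by
      rw [isLocalizedModule_iff_isLocalization]
      have e : Algebra.algebraMapSubmonoid C q.primeCompl = qC.primeCompl := by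
        ext z
        constructor
        · rintro ⟨a, ha, rfl⟩ h
          exact ha (show a ∈ q by rw [← hqCc]; exact h)
        · intro hz
          obtain ⟨a, rfl⟩ := Ideal.Quotient.mk_surjective z
          exact ⟨a, fun ha => hz (Ideal.mem_map_of_mem _ ha), rfl⟩
      rw [e]; infer_instance
    obtain ⟨e1⟩ := exists_quotEquiv q pB
    let e2 := e1.trans (IsLocalizedModule.iso q.primeCompl (IsScalarTower.toAlgHom B' C L).toLinearMap)
    have : Module.Flat A' (Localization.AtPrime q) := Module.Flat.trans A' B' _
    have : Module.Flat A' (LocalizedModule q.primeCompl B') :=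
      Module.Flat.of_linearEquiv ((IsLocalizedModule.iso q.primeCompl
        (Algebra.linearMap B' (Localization.AtPrime q))).restrictScalars A')
    obtain ⟨g, hg, hsl⟩ := FlatSlice.exists_sliced_pointwise (R := A') l B' q
      ((e2.isWeaklyRegular_congr l).2 hreg')
    have hf := (hsl q hg).flat_quotient
    rw [hl] at hf
    obtain ⟨e3⟩ := exists_quotEquiv q J
    exact Module.Flat.of_linearEquiv (e3.symm.restrictScalars A')
  have h1 := FlatSlice.flat_away_of_pointwise (R := A') (1 : B') (M := B' ⧸ J) (fun q _ _ => hpt q)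
  have : IsLocalizedModule (Submonoid.powers (1 : B')) (LinearMap.id : (B' ⧸ J) →ₗ[B'] B' ⧸ J) :=
    { map_units := fun s => by
        obtain ⟨n, hn⟩ := s.2
        have : (s : B') = 1 := hn.symm.trans (one_pow n)
        rw [this, map_one]; exact isUnit_one
      surj := fun y => ⟨⟨y, 1⟩, by simp⟩
      exists_of_eq := fun h => ⟨1, by simpa using h⟩ }
  exact Module.Flat.of_linearEquiv ((IsLocalizedModule.iso (Submonoid.powers (1 : B'))
    (LinearMap.id : (B' ⧸ J) →ₗ[B'] B' ⧸ J)).symm.restrictScalars A')

end Groth.Agent.QRFlat
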